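import Mathlib
import Groth.Agent.Lib.Helper3.RDerL

set_option linter.unusedSectionVars false
set_option linter.unusedVariables false
set_option linter.unusedSimpArgs false
set_option autoImplicit false
set_option linter.style.haveILetI false
set_option maxHeartbeats 400000

universe v u v' u'

noncomputable section

namespace Groth.Agent.Helper6.RDU

open CategoryTheory CategoryTheory.Limits

variable {A : Type u} [Category.{v} A] [Abelian A] [HasInjectiveResolutions A]
  {B : Type u'} [Category.{v'} B] [Abelian B] (F : A ⥤ B) [F.Additive]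

/-- injective resolutions give enough injectives -/
lemma enoughInjectives_of_hasInjectiveResolutions : EnoughInjectives A where
  presentation X := by
    let I := injectiveResolution X
    haveI : Mono (I.ι.f 0) := inferInstance
    exact ⟨{ J := I.cocomplex.X 0, injective := inferInstance,
             f := (HomologicalComplex.singleObjXSelf (ComplexShape.up ℕ) 0 X).inv ≫ I.ι.f 0,
             mono := mono_comp _ _ }⟩

/-- the long exact sequence of right derived functors -/
def les : RDer.DerivedLES F :=
  haveI := enoughInjectives_of_hasInjectiveResolutions (A := A)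
  Groth.Agent.Helper3.RDerL.derivedLES F

/-- `X` has no higher derived functors in degrees `> k` -/
def AcycFrom (k : ℕ) : ObjectProperty A :=
  fun X => ∀ i : ℕ, k < i → IsZero ((F.rightDerived i).obj X)

lemma acycFrom_of_iso (k : ℕ) {X Y : A} (e : X ≅ Y) (hX : AcycFrom F k X) : AcycFrom F k Y :=
  fun i hi => (hX i hi).of_iso ((F.rightDerived i).mapIso e.symm)

lemma acycFrom_of_isZero (k : ℕ) {X : A} (hX : IsZero X) : AcycFrom F k X :=
  fun i _ => (F.rightDerived i).map_isZero hX

lemma acycFrom_of_injective (k : ℕ) (X : A) [Injective X] : AcycFrom F k X := by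
  intro i hi
  obtain ⟨j, rfl⟩ : ∃ j, i = j + 1 := ⟨i - 1, by omega⟩
  exact F.isZero_rightDerived_obj_injective_succ j X

lemma acycFrom_mono {k k' : ℕ} (h : k ≤ k') {X : A} (hX : AcycFrom F k X) : AcycFrom F k' X :=
  fun i hi => hX i (lt_of_le_of_lt h hi)

lemma acycFrom_biprod (k : ℕ) {X Y : A} (hX : AcycFrom F k X) (hY : AcycFrom F k Y) :
    AcycFrom F k (X ⊞ Y) := by
  intro i hi
  rw [IsZero.iff_id_eq_zero, ← CategoryTheory.Functor.map_id, ← biprod.total, Functor.map_add,
    Functor.map_comp, Functor.map_comp]
  have h1 : (F.rightDerived i).map (biprod.fst : X ⊞ Y ⟶ X) = 0 := (hX i hi).eq_of_tgt _ _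
  have h2 : (F.rightDerived i).map (biprod.snd : X ⊞ Y ⟶ Y) = 0 := (hY i hi).eq_of_tgt _ _
  rw [h1, h2, zero_comp, zero_comp, add_zero]

/-- dimension shifting along a short exact sequence with acyclic middle term -/
lemma acycFrom_shift (k : ℕ) (S : ShortComplex A) (hS : S.ShortExact)
    (h₂ : AcycFrom F 0 S.X₂) (h₁ : AcycFrom F (k + 1) S.X₁) : AcycFrom F k S.X₃ := by
  intro i hi
  have ex := (les F).exact₃ S hS i (i + 1) rfl
  refine ex.isZero_of_both_zeros ?_ ?_
  · exact (h₂ i (by omega)).eq_of_src _ _
  · exact (h₁ (i + 1) (by omega)).eq_of_tgt _ _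

/-- if `RⁿF` vanishes, so do all higher derived functors -/
lemma isZero_rightDerived_of_le (n : ℕ) (hn : ∀ X : A, IsZero ((F.rightDerived n).obj X))
    (j : ℕ) (hj : n ≤ j) (X : A) : IsZero ((F.rightDerived j).obj X) := by
  induction j, hj using Nat.le_induction generalizing X with
  | base => exact hn X
  | succ j hj ih =>
    haveI := enoughInjectives_of_hasInjectiveResolutions (A := A)
    let S : ShortComplex A := ShortComplex.mk (Injective.ι X) (cokernel.π (Injective.ι X))
      (cokernel.condition _)
    have hS : S.ShortExact :=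
      ShortComplex.ShortExact.mk' (ShortComplex.exact_cokernel _) inferInstance inferInstance
    have ex := (les F).exact₁ S hS j (j + 1) rfl
    refine ex.isZero_of_both_zeros ?_ ?_
    · exact (ih _).eq_of_src _ _
    · exact (F.isZero_rightDerived_obj_injective_succ j (Injective.under X)).eq_of_tgt _ _

lemma acycFrom_of_vanishing (n : ℕ) (hn : ∀ X : A, IsZero ((F.rightDerived n).obj X)) (X : A) :
    AcycFrom F n X :=
  fun i hi => isZero_rightDerived_of_le F n hn i hi.le X

variable [PreservesFiniteLimits F]

/-- a left exact functor maps an epimorphism whose kernel has no `R¹F` to an epimorphism -/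
lemma epi_map_of_shortExact (S : ShortComplex A) (hS : S.ShortExact)
    (h₁ : IsZero ((F.rightDerived 1).obj S.X₁)) : Epi (F.map S.g) := by
  have ex := (les F).exact₃ S hS 0 1 rfl
  have hepi : Epi ((F.rightDerived 0).map S.g) := by
    have := ex.epi_f (h₁.eq_of_tgt _ _)
    exact this
  have hnat := F.rightDerivedZeroIsoSelf.hom.naturality S.g
  have e : F.map S.g = F.rightDerivedZeroIsoSelf.inv.app S.X₂ ≫ (F.rightDerived 0).map S.g ≫
      F.rightDerivedZeroIsoSelf.hom.app S.X₃ := by
    rw [hnat, ← Category.assoc, Iso.inv_hom_id_app, Category.id_comp]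
  rw [e]
  infer_instance

/-- a left exact functor preserves the exactness of an exact short complex if the kernel of the
first map has no `R¹F` -/
lemma map_exact_of_isZero (S : ShortComplex A) (hS : S.Exact)
    (h : IsZero ((F.rightDerived 1).obj (kernel S.f))) : (S.map F).Exact := by
  -- the short exact sequence `ker f → X₁ → ker g`
  let e : S.X₁ ⟶ kernel S.g := kernel.lift S.g S.f S.zero
  haveI : Epi e := hS.epi_kernelLift
  have he : e ≫ kernel.ι S.g = S.f := kernel.lift_ι _ _ _
  have w : kernel.ι S.f ≫ e = 0 := by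
    rw [← cancel_mono (kernel.ι S.g), Category.assoc, he, kernel.condition, zero_comp]
  let T : ShortComplex A := ShortComplex.mk (kernel.ι S.f) e w
  have hT : T.ShortExact := by
    refine ShortComplex.ShortExact.mk' ?_ (inferInstanceAs (Mono (kernel.ι S.f)))
      (inferInstanceAs (Epi e))
    apply ShortComplex.exact_of_f_is_kernel
    exact isKernelOfComp (kernel.ι S.g) S.f (kernelIsKernel S.f) w he
  haveI : Epi (F.map e) := epi_map_of_shortExact F T hT h
  -- the exact sequence `F (ker g) → F X₂ → F X₃`
  let T' : ShortComplex B := ShortComplex.mk (F.map (kernel.ι S.g)) (F.map S.g)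
    (by rw [← F.map_comp, kernel.condition, F.map_zero])
  have hT' : T'.Exact := by
    apply ShortComplex.exact_of_f_is_kernel
    exact KernelFork.mapIsLimit _ (kernelIsKernel S.g) F
  let φ : S.map F ⟶ T' :=
    { τ₁ := F.map e
      τ₂ := 𝟙 _
      τ₃ := 𝟙 _
      comm₁₂ := by
        change F.map e ≫ F.map (kernel.ι S.g) = F.map S.f ≫ 𝟙 _
        rw [← F.map_comp, he, Category.comp_id]
      comm₂₃ := by
        change 𝟙 _ ≫ F.map S.g = F.map S.g ≫ 𝟙 _
        rw [Category.id_comp, Category.comp_id] }
  haveI : Epi φ.τ₁ := inferInstanceAs (Epi (F.map e))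
  haveI : IsIso φ.τ₂ := inferInstanceAs (IsIso (𝟙 _))
  haveI : Mono φ.τ₃ := inferInstanceAs (Mono (𝟙 _))
  exact (ShortComplex.exact_iff_of_epi_of_isIso_of_mono φ).2 hT'

end Groth.Agent.Helper6.RDU
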