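import Mathlib
import Groth.Agent.Lib.Helper6.RDU.Acyc

set_option linter.unusedSectionVars false
set_option linter.unusedVariables false
set_option linter.unusedSimpArgs false
set_option autoImplicit false
set_option linter.style.haveILetI false
set_option maxHeartbeats 400000

universe v u v' u'

noncomputable section

namespace Groth.Agent.Helper6.RDU

open CategoryTheory CategoryTheory.Limits

variable {A : Type u} [Category.{v} A] [Abelian A] [EnoughInjectives A]

variable (K : CochainComplex A ℤ)

/-- the terms of the termwise injective complex in which `K` embeds -/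
abbrev embX (p : ℤ) : A := Injective.under (K.X p) ⊞ Injective.under (K.X (p + 1))

/-- the differentials of the termwise injective complex in which `K` embeds -/
def embD (p : ℤ) : embX K p ⟶ embX K (p + 1) := biprod.snd ≫ biprod.inl

lemma embD_comp (p : ℤ) : embD K p ≫ embD K (p + 1) = 0 := by
  dsimp only [embD]
  rw [Category.assoc, biprod.inl_snd_assoc, zero_comp, comp_zero]

/-- a termwise injective complex in which `K` embeds -/
def embCplx : CochainComplex A ℤ := CochainComplex.of (embX K) (embD K) (embD_comp K)

instance (p : ℤ) : Injective ((embCplx K).X p) := inferInstanceAs (Injective (embX K p))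

/-- the components of the embedding -/
def embF (p : ℤ) : K.X p ⟶ embX K p :=
  biprod.lift (Injective.ι (K.X p)) (K.d p (p + 1) ≫ Injective.ι (K.X (p + 1)))

lemma embF_comm (p : ℤ) : embF K p ≫ embD K p = K.d p (p + 1) ≫ embF K (p + 1) := by
  dsimp only [embF, embD]
  apply biprod.hom_ext
  · simp
  · simp

/-- the embedding of `K` in a termwise injective complex -/
def embHom : K ⟶ embCplx K where
  f p := embF K p
  comm' p q hpq := by
    obtain rfl : p + 1 = q := hpq
    have h : (embCplx K).d p (p + 1) = embD K p := CochainComplex.of_d _ _ p
    rw [h]
    exact embF_comm K p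

instance (p : ℤ) : Mono ((embHom K).f p) := by
  have h : (embHom K).f p ≫ (biprod.fst : embX K p ⟶ _) = Injective.ι (K.X p) :=
    biprod.lift_fst _ _
  exact mono_of_mono_fac h

instance : Mono (embHom K) := HomologicalComplex.mono_of_mono_f _ inferInstance

/-- the short exact sequence `K → J → J/K` -/
def embSC : ShortComplex (CochainComplex A ℤ) :=
  ShortComplex.mk (embHom K) (cokernel.π (embHom K)) (cokernel.condition _)

lemma embSC_shortExact : (embSC K).ShortExact :=
  ShortComplex.ShortExact.mk' (ShortComplex.exact_cokernel _) (inferInstanceAs (Mono (embHom K)))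
    (inferInstanceAs (Epi (cokernel.π (embHom K))))

lemma embSC_shortExact_eval (p : ℤ) :
    ((embSC K).map (HomologicalComplex.eval A (ComplexShape.up ℤ) p)).ShortExact :=
  (embSC_shortExact K).map_of_exact _

end Groth.Agent.Helper6.RDU
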