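import Mathlib
import Groth.Agent.Lib.Helper6.RDU.Acyc

set_option linter.unusedSectionVars false
set_option linter.unusedVariables false
set_option linter.unusedSimpArgs false
set_option autoImplicit false
set_option linter.style.haveILetI false
set_option maxHeartbeats 400000

universe v u v' u'

noncomputable section

namespace Groth.Agent.Helper6.RDU

open CategoryTheory CategoryTheory.Limits

variable {A : Type u} [Category.{v} A] [Abelian A] [HasInjectiveResolutions A]
  {B : Type u'} [Category.{v'} B] [Abelian B] (F : A ⥤ B) [F.Additive]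

variable (K : CochainComplex A ℤ)

/-- the short complex `ker d^{p'} → K^{p'} → ker d^p` -/
def kerSC (p' p q : ℤ) : ShortComplex A :=
  ShortComplex.mk (kernel.ι (K.d p' p)) (kernel.lift (K.d p q) (K.d p' p) (K.d_comp_d _ _ _)) (by
    rw [← cancel_mono (kernel.ι (K.d p q)), Category.assoc, kernel.lift_ι, kernel.condition,
      zero_comp])

lemma kerSC_shortExact (p' p q : ℤ) (h' : p' + 1 = p) (h : p + 1 = q) (hK : K.ExactAt p) :
    (kerSC K p' p q).ShortExact := by
  have hex : (K.sc' p' p q).Exact :=
    (K.exactAt_iff' p' p q ((ComplexShape.up ℤ).prev_eq' h') ((ComplexShape.up ℤ).next_eq' h)).1 hK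
  haveI : Epi (kerSC K p' p q).g := hex.epi_kernelLift
  haveI : Mono (kerSC K p' p q).f := inferInstanceAs (Mono (kernel.ι (K.d p' p)))
  refine ShortComplex.ShortExact.mk' ?_ inferInstance inferInstance
  apply ShortComplex.exact_of_f_is_kernel
  exact isKernelOfComp (kernel.ι (K.d p q)) (K.d p' p) (kernelIsKernel (K.d p' p))
    (kerSC K p' p q).zero (kernel.lift_ι _ _ _)

/-- in an acyclic complex of `F`-acyclic objects, the kernels of the differentials are
`F`-acyclic (if `F` has finite cohomological dimension) -/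
lemma acycFrom_kernel (n : ℕ) (hn : ∀ X : A, IsZero ((F.rightDerived n).obj X))
    (hK : ∀ p, K.ExactAt p) (hA : ∀ p, AcycFrom F 0 (K.X p)) (k : ℕ) :
    ∀ (p q : ℤ) (h : p + 1 = q), AcycFrom F k (kernel (K.d p q)) := by
  obtain ⟨m, rfl⟩ | hlt : (∃ m, k = n + m) ∨ k < n := by
    rcases le_or_gt n k with h | h
    · exact Or.inl ⟨k - n, by omega⟩
    · exact Or.inr h
  · intro p q h
    exact acycFrom_mono F (Nat.le_add_right n m) (acycFrom_of_vanishing F n hn _)
  · -- downward induction
    obtain ⟨m, rfl⟩ : ∃ m, n = k + m := ⟨n - k, by omega⟩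
    clear hlt
    induction m generalizing k with
    | zero =>
      intro p q h
      exact acycFrom_of_vanishing F _ hn _
    | succ m ih =>
      intro p q h
      have hk1 : ∀ (p q : ℤ) (h : p + 1 = q), AcycFrom F (k + 1) (kernel (K.d p q)) :=
        ih (k + 1) (by rw [show k + 1 + m = k + (m + 1) by omega]; exact hn)
      have hS := kerSC_shortExact K (p - 1) p q (by omega) h (hK p)
      exact acycFrom_shift F k (kerSC K (p - 1) p q) hS (hA _) (hk1 _ _ (by omega))

variable [PreservesFiniteLimits F]

/-- a left exact functor of finite cohomological dimension preserves the acyclicity of complexes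
of `F`-acyclic objects -/
theorem map_exactAt (n : ℕ) (hn : ∀ X : A, IsZero ((F.rightDerived n).obj X))
    (hK : ∀ p, K.ExactAt p) (hA : ∀ p, AcycFrom F 0 (K.X p)) (p : ℤ) :
    (((F.mapHomologicalComplex (ComplexShape.up ℤ)).obj K)).ExactAt p := by
  have h1 : (ComplexShape.up ℤ).prev p = p - 1 := (ComplexShape.up ℤ).prev_eq' (by simp)
  have h2 : (ComplexShape.up ℤ).next p = p + 1 := (ComplexShape.up ℤ).next_eq' rfl
  rw [HomologicalComplex.exactAt_iff' _ (p - 1) p (p + 1) h1 h2]
  have hex : (K.sc' (p - 1) p (p + 1)).Exact :=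
    (K.exactAt_iff' (p - 1) p (p + 1) h1 h2).1 (hK p)
  have hZ : IsZero ((F.rightDerived 1).obj (kernel (K.sc' (p - 1) p (p + 1)).f)) :=
    acycFrom_kernel F K n hn hK hA 0 (p - 1) p (by omega) 1 (by omega)
  exact map_exact_of_isZero F _ hex hZ

end Groth.Agent.Helper6.RDU
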