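import Mathlib

set_option linter.unusedSectionVars false
set_option linter.unusedVariables false
set_option linter.unusedSimpArgs false
set_option autoImplicit false
set_option linter.style.haveILetI false
set_option maxHeartbeats 400000

noncomputable section

namespace Groth.Agent.Helper6.RDU

open CategoryTheory CategoryTheory.Limits Pretriangulated

variable {C : Type*} [Category C] [HasZeroObject C] [HasShift C ℤ] [Preadditive C]
  [∀ (n : ℤ), (shiftFunctor C n).Additive] [Pretriangulated C] [IsTriangulated C]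
  (A B : ObjectProperty C) [A.IsTriangulated] [B.IsTriangulated] [B.IsClosedUnderIsomorphisms]

/-- a morphism in `B.trW` between objects of `A` has its cone in `A ⊓ B` -/
lemma inf_trW_of_trW {X Y : C} (f : X ⟶ Y) (hX : A X) (hY : A Y) (hf : B.trW f) :
    (A ⊓ B).trW f := by
  obtain ⟨Z, hZ, b, c, hT⟩ := A.distinguished_cocone_triangle f hX hY
  have hZ' : B Z := (B.trW_iff_of_distinguished _ hT).1 hf
  exact ObjectProperty.trW.mk (A ⊓ B) hT ⟨hZ, hZ'⟩

variable (hres : ∀ X : C, ∃ (Y : C) (s : X ⟶ Y), A Y ∧ B.trW s)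

include hres in
lemma isVerdierRightLocalizing_of_res : A.IsVerdierRightLocalizing B := by
  rw [ObjectProperty.isVerdierRightLocalizing_iff]
  intro X Y s hX hs
  obtain ⟨Z, t, hZ, ht⟩ := hres Y
  refine ⟨Z, s ≫ t, t, hZ, ?_, rfl⟩
  exact inf_trW_of_trW A B _ hX hZ (B.trW.comp_mem _ _ hs ht)

include hres in
lemma hasRightResolutions_of_res : (A.triangulatedLocalizerMorphism B).HasRightResolutions := by
  intro X
  obtain ⟨Y, s, hY, hs⟩ := hres X
  exact ⟨{ X₁ := ⟨Y, hY⟩, w := s, hw := hs }⟩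

include hres in
lemma isLocalizedEquivalence_of_res :
    (A.triangulatedLocalizerMorphism B).IsLocalizedEquivalence := by
  haveI := isVerdierRightLocalizing_of_res A B hres
  haveI := hasRightResolutions_of_res A B hres
  let Φ := A.triangulatedLocalizerMorphism B
  haveI : (Φ.functor ⋙ B.trW.Q).EssSurj := Φ.essSurj_of_hasRightResolutions B.trW.Q
  haveI : (Φ.functor ⋙ B.trW.Q).IsLocalization (B.inverseImage A.ι).trW :=
    Φ.isLocalization_of_isLocalizedFullyFaithful (L₂ := B.trW.Q) (L₁ := Φ.functor ⋙ B.trW.Q)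
      (F := 𝟭 _) (Functor.rightUnitor _).symm
  exact LocalizerMorphism.IsLocalizedEquivalence.of_isLocalization_of_isLocalization Φ B.trW.Q

include hres in
lemma isConnected_rightResolution_of_res (X : C) :
    IsConnected ((A.triangulatedLocalizerMorphism B).RightResolution X) := by
  haveI : Nonempty ((A.triangulatedLocalizerMorphism B).RightResolution X) :=
    hasRightResolutions_of_res A B hres X
  apply zigzag_isConnected
  intro R R'
  -- span `R.X₁ ← X → R'.X₁`
  let φ : B.trW.RightFraction R.X₁.obj R'.X₁.obj := { s := R.w, hs := R.hw, f := R'.w }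
  obtain ⟨ψ, hψ⟩ := φ.exists_leftFraction
  obtain ⟨Z, t, hZ, ht⟩ := hres ψ.Y'
  let R'' : (A.triangulatedLocalizerMorphism B).RightResolution X :=
    { X₁ := ⟨Z, hZ⟩
      w := R'.w ≫ ψ.s ≫ t
      hw := B.trW.comp_mem _ _ R'.hw (B.trW.comp_mem _ _ ψ.hs ht) }
  let a : R ⟶ R'' :=
    { f := A.homMk (ψ.f ≫ t)
      comm := by
        change R.w ≫ (ψ.f ≫ t) = R'.w ≫ ψ.s ≫ t
        have : R'.w ≫ ψ.s = R.w ≫ ψ.f := hψ
        rw [← Category.assoc, ← this, Category.assoc] }
  let b : R' ⟶ R'' :=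
    { f := A.homMk (ψ.s ≫ t)
      comm := rfl }
  exact Zigzag.of_hom_inv a b

include hres in
lemma hasRightResolutions_arrow_of_res :
    (A.triangulatedLocalizerMorphism B).arrow.HasRightResolutions := by
  intro f
  obtain ⟨Y₀, s₀, hY₀, hs₀⟩ := hres f.left
  obtain ⟨Y₁, s₁, hY₁, hs₁⟩ := hres f.right
  let φ : B.trW.RightFraction Y₀ Y₁ := { s := s₀, hs := hs₀, f := f.hom ≫ s₁ }
  obtain ⟨ψ, hψ⟩ := φ.exists_leftFraction
  obtain ⟨Z, t, hZ, ht⟩ := hres ψ.Y'
  let g : (⟨Y₀, hY₀⟩ : A.FullSubcategory) ⟶ ⟨Z, hZ⟩ := A.homMk (ψ.f ≫ t)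
  refine ⟨{ X₁ := Arrow.mk g
            w := Arrow.homMk s₀ (s₁ ≫ ψ.s ≫ t) ?_
            hw := ⟨hs₀, B.trW.comp_mem _ _ hs₁ (B.trW.comp_mem _ _ ψ.hs ht)⟩ }⟩
  change s₀ ≫ (ψ.f ≫ t) = f.hom ≫ s₁ ≫ ψ.s ≫ t
  have : (f.hom ≫ s₁) ≫ ψ.s = s₀ ≫ ψ.f := hψ
  rw [← Category.assoc, ← this]
  simp only [Category.assoc]

include hres in
theorem isRightDerivabilityStructure_of_res :
    (A.triangulatedLocalizerMorphism B).IsRightDerivabilityStructure := by
  haveI := isLocalizedEquivalence_of_res A B hres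
  haveI := fun X => isConnected_rightResolution_of_res A B hres X
  haveI := hasRightResolutions_arrow_of_res A B hres
  exact LocalizerMorphism.IsRightDerivabilityStructure.mk' _

end Groth.Agent.Helper6.RDU
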