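import Mathlib
import Groth.Agent.Lib.Helper6.RDU.AcycCplx

set_option linter.unusedSectionVars false
set_option linter.unusedVariables false
set_option linter.unusedSimpArgs false
set_option autoImplicit false
set_option linter.style.haveILetI false
set_option maxHeartbeats 400000

universe v u v' u'

noncomputable section

namespace Groth.Agent.Helper6.RDU

open CategoryTheory CategoryTheory.Limits Pretriangulated ZeroObject

variable {A : Type u} [Category.{v} A] [Abelian A] [HasInjectiveResolutions A]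
  {B : Type u'} [Category.{v'} B] [Abelian B] (F : A ⥤ B) [F.Additive]

/-- objects of the homotopy category isomorphic to complexes with terms in `AcycFrom F k` -/
def Tw (k : ℕ) : ObjectProperty (HomotopyCategory A (ComplexShape.up ℤ)) :=
  fun X => ∃ K : CochainComplex A ℤ, (∀ p, AcycFrom F k (K.X p)) ∧
    Nonempty (X ≅ (HomotopyCategory.quotient A (ComplexShape.up ℤ)).obj K)

lemma Tw_quotient_obj (k : ℕ) (K : CochainComplex A ℤ) (hK : ∀ p, AcycFrom F k (K.X p)) :
    Tw F k ((HomotopyCategory.quotient A (ComplexShape.up ℤ)).obj K) :=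
  ⟨K, hK, ⟨Iso.refl _⟩⟩

instance (k : ℕ) : (Tw F k).IsClosedUnderIsomorphisms where
  of_iso := fun e ⟨K, hK, ⟨e'⟩⟩ => ⟨K, hK, ⟨e.symm ≪≫ e'⟩⟩

instance (k : ℕ) : (Tw F k).ContainsZero where
  exists_zero := by
    refine ⟨(HomotopyCategory.quotient A (ComplexShape.up ℤ)).obj 0,
      (HomotopyCategory.quotient A (ComplexShape.up ℤ)).map_isZero (isZero_zero _), ?_⟩
    refine Tw_quotient_obj F k 0 (fun p => acycFrom_of_isZero F k ?_)
    exact (HomologicalComplex.eval A (ComplexShape.up ℤ) p).map_isZero (isZero_zero _)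

instance (k : ℕ) : (Tw F k).IsStableUnderShift ℤ where
  isStableUnderShiftBy a :=
    { le_shift := by
        rintro X ⟨K, hK, ⟨e⟩⟩
        refine ⟨K⟦a⟧, fun p => hK _, ⟨(shiftFunctor _ a).mapIso e ≪≫
          (((HomotopyCategory.quotient A (ComplexShape.up ℤ)).commShiftIso a).app K).symm⟩⟩ }

lemma acycFrom_mappingCone (k : ℕ) {K L : CochainComplex A ℤ} (φ : K ⟶ L)
    (hK : ∀ p, AcycFrom F k (K.X p)) (hL : ∀ p, AcycFrom F k (L.X p)) (p : ℤ) :
    AcycFrom F k ((CochainComplex.mappingCone φ).X p) :=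
  acycFrom_of_iso F k
    (HomologicalComplex.homotopyCofiber.XIsoBiprod φ p (p + 1) rfl).symm
    (acycFrom_biprod F k (hK _) (hL _))

instance (k : ℕ) : (Tw F k).IsTriangulatedClosed₃ where
  ext₃' := by
    rintro T hT ⟨K₁, hK₁, ⟨e₁⟩⟩ ⟨K₂, hK₂, ⟨e₂⟩⟩
    obtain ⟨φ, hφ⟩ := (HomotopyCategory.quotient A (ComplexShape.up ℤ)).map_surjective
      (e₁.inv ≫ T.mor₁ ≫ e₂.hom)
    have hT' := HomotopyCategory.mappingCone_triangleh_distinguished φ
    have comm : T.mor₁ ≫ e₂.hom = e₁.hom ≫ (CochainComplex.mappingCone.triangleh φ).mor₁ := by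
      change T.mor₁ ≫ e₂.hom = e₁.hom ≫ (HomotopyCategory.quotient A (ComplexShape.up ℤ)).map φ
      rw [hφ, Iso.hom_inv_id_assoc]
    let e := isoTriangleOfIso₁₂ T _ hT hT' e₁ e₂ comm
    refine ObjectProperty.le_isoClosure _ _ ?_
    exact ⟨CochainComplex.mappingCone φ, acycFrom_mappingCone F k φ hK₁ hK₂,
      ⟨Triangle.π₃.mapIso e⟩⟩

instance (k : ℕ) : (Tw F k).IsTriangulatedClosed₂ :=
  ObjectProperty.IsTriangulatedClosed₂.of_isTriangulatedClosed₃

instance (k : ℕ) : (Tw F k).IsTriangulated where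

end Groth.Agent.Helper6.RDU
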