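import Mathlib
import Groth.Agent.Lib.Helper6.RDU.TwProp
import Groth.Agent.Lib.Helper6.RDU.Embed

set_option linter.unusedSectionVars false
set_option linter.unusedVariables false
set_option linter.unusedSimpArgs false
set_option autoImplicit false
set_option linter.style.haveILetI false
set_option maxHeartbeats 400000

universe w v u v' u'

noncomputable section

namespace Groth.Agent.Helper6.RDU

open CategoryTheory CategoryTheory.Limits Pretriangulated

variable {A : Type u} [Category.{v} A] [Abelian A] [HasInjectiveResolutions A]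
  [HasDerivedCategory.{w} A]
  {B : Type u'} [Category.{v'} B] [Abelian B] (F : A ⥤ B) [F.Additive]

/-- one step of the construction of resolutions -/
lemma exists_step (k : ℕ) (K' : CochainComplex A ℤ) (hK' : ∀ p, AcycFrom F (k + 1) (K'.X p))
    (IH : ∀ X, Tw F k X → ∃ (Y : HomotopyCategory A (ComplexShape.up ℤ)) (s : X ⟶ Y),
      Tw F 0 Y ∧ HomotopyCategory.quasiIso A (ComplexShape.up ℤ) s) :
    ∃ (L : CochainComplex A ℤ)
      (c : ((HomotopyCategory.quotient A (ComplexShape.up ℤ)).obj K')⟦(1 : ℤ)⟧ ⟶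
        (HomotopyCategory.quotient A (ComplexShape.up ℤ)).obj L),
      (∀ p, AcycFrom F 0 (L.X p)) ∧ HomotopyCategory.quasiIso A (ComplexShape.up ℤ) c := by
  haveI := enoughInjectives_of_hasInjectiveResolutions (A := A)
  let S := embSC K'
  have hS : S.ShortExact := embSC_shortExact K'
  have hQ : ∀ p, AcycFrom F k (S.X₃.X p) := fun p =>
    acycFrom_shift F k (S.map (HomologicalComplex.eval A (ComplexShape.up ℤ) p))
      (embSC_shortExact_eval K' p) (acycFrom_of_injective F 0 ((embCplx K').X p)) (hK' p)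
  obtain ⟨Y, s, ⟨L', hL', ⟨eY⟩⟩, hs⟩ := IH _ (Tw_quotient_obj F k S.X₃ hQ)
  have hq' : HomotopyCategory.quasiIso A (ComplexShape.up ℤ) (s ≫ eY.hom) :=
    MorphismProperty.RespectsIso.postcomp _ eY.hom _ hs
  obtain ⟨q, hq⟩ := (HomotopyCategory.quotient A (ComplexShape.up ℤ)).map_surjective (s ≫ eY.hom)
  let g : embCplx K' ⟶ L' := S.g ≫ q
  have hL : ∀ p, AcycFrom F 0 ((CochainComplex.mappingCone g).X p) :=
    acycFrom_mappingCone F 0 g (fun p => acycFrom_of_injective F 0 ((embCplx K').X p)) hL'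
  let T₁ := CochainComplex.mappingCone.triangleh S.f
  let T₂ := CochainComplex.mappingCone.triangleh g
  have hT₁ : T₁.rotate ∈ distTriang _ :=
    rot_of_distTriang _ (HomotopyCategory.mappingCone_triangleh_distinguished S.f)
  have hT₂ : T₂ ∈ distTriang _ := HomotopyCategory.mappingCone_triangleh_distinguished g
  let a : T₁.rotate.obj₁ ⟶ T₂.obj₁ := 𝟙 _
  let b : T₁.rotate.obj₂ ⟶ T₂.obj₂ :=
    (HomotopyCategory.quotient A (ComplexShape.up ℤ)).map
      (CochainComplex.mappingCone.descShortComplex S ≫ q)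
  have comm : T₁.rotate.mor₁ ≫ b = a ≫ T₂.mor₁ := by
    change (HomotopyCategory.quotient A (ComplexShape.up ℤ)).map
        (CochainComplex.mappingCone.inr S.f) ≫
      (HomotopyCategory.quotient A (ComplexShape.up ℤ)).map
        (CochainComplex.mappingCone.descShortComplex S ≫ q) =
      𝟙 _ ≫ (HomotopyCategory.quotient A (ComplexShape.up ℤ)).map g
    rw [← Functor.map_comp, ← Category.assoc, CochainComplex.mappingCone.inr_descShortComplex,
      Category.id_comp]
    rfl
  obtain ⟨c, hc₁, hc₂⟩ := complete_distinguished_triangle_morphism _ _ hT₁ hT₂ a b comm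
  refine ⟨CochainComplex.mappingCone g, c, hL, ?_⟩
  let φ : T₁.rotate ⟶ T₂ :=
    { hom₁ := a, hom₂ := b, hom₃ := c, comm₁ := comm, comm₂ := hc₁, comm₃ := hc₂ }
  have hb : HomotopyCategory.quasiIso A (ComplexShape.up ℤ) b := by
    have h1 : HomotopyCategory.quasiIso A (ComplexShape.up ℤ)
        ((HomotopyCategory.quotient A (ComplexShape.up ℤ)).map
          (CochainComplex.mappingCone.descShortComplex S)) := by
      rw [HomotopyCategory.quotient_map_mem_quasiIso_iff]
      exact CochainComplex.mappingCone.quasiIso_descShortComplex hS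
    have e : b = (HomotopyCategory.quotient A (ComplexShape.up ℤ)).map
        (CochainComplex.mappingCone.descShortComplex S) ≫ (s ≫ eY.hom) := by
      rw [← hq, ← Functor.map_comp]
      rfl
    rw [e]
    exact MorphismProperty.comp_mem _ _ _ h1 hq'
  let ψ := (DerivedCategory.Qh (C := A)).mapTriangle.map φ
  have h₁ : IsIso ψ.hom₁ := by
    change IsIso (DerivedCategory.Qh.map (𝟙 _))
    infer_instance
  have h₂ : IsIso ψ.hom₂ := by
    change IsIso (DerivedCategory.Qh.map b)
    rw [DerivedCategory.isIso_Qh_map_iff]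
    exact hb
  have h₃ : IsIso ψ.hom₃ :=
    isIso₃_of_isIso₁₂ ψ (DerivedCategory.Qh.map_distinguished _ hT₁)
      (DerivedCategory.Qh.map_distinguished _ hT₂) h₁ h₂
  exact (DerivedCategory.isIso_Qh_map_iff c).1 h₃

/-- every complex with terms in `AcycFrom F k` admits a quasi-isomorphism to a complex of
`F`-acyclic objects -/
theorem exists_resolution (k : ℕ) :
    ∀ X, Tw F k X → ∃ (Y : HomotopyCategory A (ComplexShape.up ℤ)) (s : X ⟶ Y),
      Tw F 0 Y ∧ HomotopyCategory.quasiIso A (ComplexShape.up ℤ) s := by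
  induction k with
  | zero =>
    intro X hX
    exact ⟨X, 𝟙 X, hX, (HomotopyCategory.quasiIso A (ComplexShape.up ℤ)).id_mem X⟩
  | succ k ih =>
    intro X hX
    have hX' : Tw F (k + 1) (X⟦(-1 : ℤ)⟧) := (Tw F (k + 1)).le_shift (-1 : ℤ) _ hX
    obtain ⟨K', hK', ⟨e⟩⟩ := hX'
    obtain ⟨L, c, hL, hc⟩ := exists_step F k K' hK' ih
    let e' : X ≅ ((HomotopyCategory.quotient A (ComplexShape.up ℤ)).obj K')⟦(1 : ℤ)⟧ :=
      ((shiftFunctorCompIsoId (HomotopyCategory A (ComplexShape.up ℤ)) (-1 : ℤ) 1
        (by simp)).symm.app X) ≪≫ (shiftFunctor _ (1 : ℤ)).mapIso e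
    exact ⟨(HomotopyCategory.quotient A (ComplexShape.up ℤ)).obj L, e'.hom ≫ c,
      Tw_quotient_obj F 0 L hL, MorphismProperty.RespectsIso.precomp _ e'.hom _ hc⟩

/-- if `RⁿF` vanishes, every object of the homotopy category admits a quasi-isomorphism to a
complex of `F`-acyclic objects -/
theorem exists_resolution_of_vanishing (n : ℕ)
    (hn : ∀ X : A, IsZero ((F.rightDerived n).obj X))
    (X : HomotopyCategory A (ComplexShape.up ℤ)) :
    ∃ (Y : HomotopyCategory A (ComplexShape.up ℤ)) (s : X ⟶ Y),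
      Tw F 0 Y ∧ HomotopyCategory.quasiIso A (ComplexShape.up ℤ) s := by
  obtain ⟨K, rfl⟩ := HomotopyCategory.quotient_obj_surjective X
  exact exists_resolution F n _
    (Tw_quotient_obj F n K (fun p => acycFrom_of_vanishing F n hn _))

end Groth.Agent.Helper6.RDU
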