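import Mathlib
import Groth.Agent.Lib.Helper6.RDU.TriDeriv
import Groth.Agent.Lib.Helper6.RDU.Resol

set_option linter.unusedSectionVars false
set_option linter.unusedVariables false
set_option linter.unusedSimpArgs false
set_option autoImplicit false
set_option linter.style.haveILetI false
set_option maxHeartbeats 400000

universe w w' v u v' u'

noncomputable section

namespace Groth.Agent.Helper6.RDU

open CategoryTheory CategoryTheory.Limits Pretriangulated

variable {A : Type u} [Category.{v} A] [Abelian A] [HasDerivedCategory.{w} A]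
  [HasInjectiveResolutions A]
  {B : Type u'} [Category.{v'} B] [Abelian B] [HasDerivedCategory.{w'} B]
  (F : A ⥤ B) [F.Additive] [PreservesFiniteLimits F]

/-- the functor to be derived -/
abbrev Ft : HomotopyCategory A (ComplexShape.up ℤ) ⥤ DerivedCategory B :=
  F.mapHomotopyCategory (ComplexShape.up ℤ) ⋙ DerivedCategory.Qh

/-- the localizer morphism given by complexes of `F`-acyclic objects -/
abbrev PhiAcyc : LocalizerMorphism
    ((HomotopyCategory.subcategoryAcyclic A).inverseImage (Tw F 0).ι).trW
    (HomotopyCategory.subcategoryAcyclic A).trW :=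
  (Tw F 0).triangulatedLocalizerMorphism (HomotopyCategory.subcategoryAcyclic A)

variable (n : ℕ) (hn : ∀ X : A, IsZero ((F.rightDerived n).obj X))

include hn in
lemma isRightDerivabilityStructure_PhiAcyc : (PhiAcyc F).IsRightDerivabilityStructure :=
  isRightDerivabilityStructure_of_res _ _ (by
    intro X
    obtain ⟨Y, s, hY, hs⟩ := exists_resolution_of_vanishing F n hn X
    refine ⟨Y, s, hY, ?_⟩
    rwa [← HomotopyCategory.quasiIso_eq_trW_subcategoryAcyclic])

include hn in
lemma derives_PhiAcyc : (PhiAcyc F).Derives (Ft F) := by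
  intro X Y f hf
  rw [ObjectProperty.trW_inverseImage_ι_iff, ObjectProperty.trW_iff] at hf
  obtain ⟨Z, a, b, hT, ⟨K, hK, ⟨e⟩⟩, hZ⟩ := hf
  have hT' := (F.mapHomotopyCategory (ComplexShape.up ℤ)).map_distinguished _ hT
  have hK' : ∀ p, K.ExactAt p := by
    rw [← HomotopyCategory.quotient_obj_mem_subcategoryAcyclic_iff_exactAt]
    exact (HomotopyCategory.subcategoryAcyclic A).prop_of_iso e hZ
  have hFK : HomotopyCategory.subcategoryAcyclic B
      ((HomotopyCategory.quotient B (ComplexShape.up ℤ)).obj
        ((F.mapHomologicalComplex (ComplexShape.up ℤ)).obj K)) := by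
    rw [HomotopyCategory.quotient_obj_mem_subcategoryAcyclic_iff_exactAt]
    exact map_exactAt F K n hn hK' hK
  have hZ' : HomotopyCategory.subcategoryAcyclic B
      ((F.mapHomotopyCategory (ComplexShape.up ℤ)).obj Z) := by
    refine (HomotopyCategory.subcategoryAcyclic B).prop_of_iso ?_ hFK
    exact ((F.mapHomotopyCategoryFactors (ComplexShape.up ℤ)).app K).symm ≪≫
      (F.mapHomotopyCategory (ComplexShape.up ℤ)).mapIso e.symm
  have hW : (HomotopyCategory.subcategoryAcyclic B).trW
      ((F.mapHomotopyCategory (ComplexShape.up ℤ)).map f.hom) :=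
    ObjectProperty.trW.mk _ hT' hZ'
  rw [← HomotopyCategory.quasiIso_eq_trW_subcategoryAcyclic] at hW
  exact (DerivedCategory.isIso_Qh_map_iff _).2 hW

include hn in
theorem hasRightDerivedFunctor_aux (W : MorphismProperty (HomotopyCategory A (ComplexShape.up ℤ)))
    (hW : W = (HomotopyCategory.subcategoryAcyclic A).trW) :
    (Ft F).HasRightDerivedFunctor W := by
  subst hW
  haveI := isRightDerivabilityStructure_PhiAcyc F n hn
  haveI := (derives_PhiAcyc F n hn).hasPointwiseRightDerivedFunctor
  infer_instance

include hn in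
theorem hasRightDerivedFunctor :
    (F.mapHomotopyCategory (ComplexShape.up ℤ) ⋙ DerivedCategory.Qh).HasRightDerivedFunctor
      (HomotopyCategory.quasiIso A (ComplexShape.up ℤ)) :=
  hasRightDerivedFunctor_aux F n hn _ (HomotopyCategory.quasiIso_eq_trW_subcategoryAcyclic A)

include hn in
theorem isIso_unit_aux (W : MorphismProperty (HomotopyCategory A (ComplexShape.up ℤ)))
    (hW : W = (HomotopyCategory.subcategoryAcyclic A).trW)
    [(DerivedCategory.Qh (C := A)).IsLocalization W]
    [(Ft F).HasRightDerivedFunctor W]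
    (K : CochainComplex A ℤ) (hK : ∀ p, AcycFrom F 0 (K.X p)) :
    IsIso (((Ft F).totalRightDerivedUnit DerivedCategory.Qh W).app
      ((HomotopyCategory.quotient A (ComplexShape.up ℤ)).obj K)) := by
  subst hW
  haveI := isRightDerivabilityStructure_PhiAcyc F n hn
  let X₁ : (Tw F 0).FullSubcategory :=
    ⟨(HomotopyCategory.quotient A (ComplexShape.up ℤ)).obj K, Tw_quotient_obj F 0 K hK⟩
  exact (derives_PhiAcyc F n hn).isIso_of_isRightDerivedFunctor
    ((Ft F).totalRightDerivedUnit DerivedCategory.Qh _) X₁

include hn in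
theorem isIso_unit
    [(F.mapHomotopyCategory (ComplexShape.up ℤ) ⋙ DerivedCategory.Qh).HasRightDerivedFunctor
      (HomotopyCategory.quasiIso A (ComplexShape.up ℤ))]
    (K : CochainComplex A ℤ)
    (hK : ∀ (m : ℤ) (i : ℕ), 0 < i → IsZero ((F.rightDerived i).obj (K.X m))) :
    IsIso (((F.mapHomotopyCategory (ComplexShape.up ℤ) ⋙
      DerivedCategory.Qh).totalRightDerivedUnit DerivedCategory.Qh
        (HomotopyCategory.quasiIso A (ComplexShape.up ℤ))).app
          ((HomotopyCategory.quotient A (ComplexShape.up ℤ)).obj K)) :=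
  isIso_unit_aux F n hn _ (HomotopyCategory.quasiIso_eq_trW_subcategoryAcyclic A) K
    (fun p i hi => hK p i hi)

end Groth.Agent.Helper6.RDU
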